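import Groth.Agent.Pi1Glue.DiscreteTriv
import Groth.Agent.SpecFerrand.Relative
import Groth.Agent.ClosedGlue.Union
import Groth.Prelude.Def_FEt

/-!
# Extending a finite etale cover of one closed piece by a trivial cover of the other
-/

universe u

set_option autoImplicit false
set_option backward.isDefEq.respectTransparency false
set_option backward.defeqAttrib.useBackward true
set_option linter.style.haveILetI false

open CategoryTheory Limits AlgebraicGeometry TopologicalSpace
open Groth.SpecFerrand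

namespace Groth.Pi1Glue

theorem etale_sigmaDesc {Z : Scheme.{u}} (ι : Type u) :
    Etale (Sigma.desc fun _ : ι => 𝟙 Z) := by
  rw [IsZariskiLocalAtSource.iff_of_openCover (P := @Etale) (sigmaOpenCover fun _ : ι => Z)]
  intro i
  change Etale (Sigma.ι (fun _ : ι => Z) i ≫ Sigma.desc fun _ : ι => 𝟙 Z)
  rw [Sigma.ι_desc]; infer_instance

theorem affine_charts {Z₀ X Y P : Scheme.{u}} {i : Z₀ ⟶ X} {j : Z₀ ⟶ Y} [IsClosedImmersion i] [IsAffineHom j]
    {X' Y' Z' : Scheme.{u}} {i' : Z' ⟶ X'} {j' : Z' ⟶ Y'} [IsClosedImmersion i'] [IsIntegralHom j']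
    (hc' : Glue.Covers i' j') {a : X ⟶ P} {b : Y ⟶ P} (hc : Glue.Covers i j) (hP : IsPushout i j a b)
    {f : X' ⟶ X} {g : Y' ⟶ Y} [IsAffineHom f] [IsAffineHom g]
    (k : Glue.P i' j' ⟶ P) (ha : Glue.a hc' ≫ k = f ≫ a) (hb : Glue.b hc' ≫ k = g ≫ b) :
    IsAffineHom k := by
  have key : ∀ p : P, ∃ c : SqChart i j a b, p ∈ c.u.opensRange := fun p => by
    obtain ⟨c, hc, -⟩ := Glue.exists_sqChart_le hc hP (V := ⊤) (x := p) trivial
    exact ⟨c, hc⟩
  choose c hcp using key
  refine isAffineHom_of_forall_exists_isAffineOpen k fun p =>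
    ⟨(c p).u.opensRange, hcp p, isAffineOpen_opensRange _, ?_⟩
  let O : (Glue.P i' j').Opens := k ⁻¹ᵁ (c p).u.opensRange
  have hO : i' ⁻¹ᵁ Glue.a hc' ⁻¹ᵁ O = j' ⁻¹ᵁ Glue.b hc' ⁻¹ᵁ O := by
    exact (Scheme.Hom.comp_preimage i' (Glue.a hc') O).symm.trans
      ((congrArg (fun m => m ⁻¹ᵁ O) (Glue.comp_eq hc')).trans (Scheme.Hom.comp_preimage j' (Glue.b hc') O))
  have hU : IsAffineOpen (Glue.a hc' ⁻¹ᵁ O) := by
    rw [← Scheme.Hom.comp_preimage]
    rw [ha, Scheme.Hom.comp_preimage, ← opensRange_of_isPullback (c p).hX]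
    exact (isAffineOpen_opensRange _).preimage f
  have hV : IsAffineOpen (Glue.b hc' ⁻¹ᵁ O) := by
    rw [← Scheme.Hom.comp_preimage]
    rw [hb, Scheme.Hom.comp_preimage, ← opensRange_of_isPullback (c p).hY]
    exact (isAffineOpen_opensRange _).preimage g
  let K : Glue.GoodPair i' j' := ⟨_, _, hU, hV, hO⟩
  suffices h : O = (Glue.ιc i' j' K).opensRange by
    change IsAffineOpen O
    rw [h]
    exact isAffineOpen_opensRange _
  ext x
  obtain ⟨l, Q, rfl⟩ := Glue.jointly_surjective_P x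
  rcases l.jointly_surjective Q with ⟨y, rfl⟩ | ⟨x, rfl⟩
  · rw [← Scheme.Hom.comp_apply, ← Glue.fY_b hc', Scheme.Hom.comp_apply]
    change l.fY y ∈ Glue.b hc' ⁻¹ᵁ O ↔ l.fY y ∈ Glue.b hc' ⁻¹ᵁ (Glue.ιc i' j' K).opensRange
    rw [Glue.preimage_b hc' K]
  · rw [← Scheme.Hom.comp_apply, ← Glue.fX_a hc', Scheme.Hom.comp_apply]
    change l.fX x ∈ Glue.a hc' ⁻¹ᵁ O ↔ l.fX x ∈ Glue.a hc' ⁻¹ᵁ (Glue.ιc i' j' K).opensRange
    rw [Glue.preimage_a hc' K]

/-- A finite etale cover of the piece `V(I)`, of constant degree, extends to the union when the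
intersection is discrete with separably closed residue fields. -/
theorem exists_extension {Z : Scheme.{u}} (I J : Z.IdealSheafData) (hIJ : I ⊓ J = ⊥)
    [DiscreteTopology (I ⊔ J).subscheme]
    (hsep : ∀ d : ↥(I ⊔ J).subscheme, IsSepClosed ((I ⊔ J).subscheme.residueField d))
    (Y : FEt.Cat I.subscheme) (n : ℕ) (hn : ∀ x : I.subscheme, Y.hom.finrank x = n) :
    ∃ W : FEt.Cat Z, Nonempty ((FEt.restrict I.subschemeι).obj W ≅ Y) := by
  haveI : IsFinite Y.hom := Y.prop.1
  haveI : Etale Y.hom := Y.prop.2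
  let tI := Scheme.IdealSheafData.inclusion (le_sup_left : I ≤ I ⊔ J)
  let tJ := Scheme.IdealSheafData.inclusion (le_sup_right : J ≤ I ⊔ J)
  haveI : IsClosedImmersion tI := by
    have : IsClosedImmersion (tI ≫ I.subschemeι) := by
      rw [Scheme.IdealSheafData.inclusion_subschemeι]; infer_instance
    exact IsClosedImmersion.of_comp_isClosedImmersion _ I.subschemeι
  haveI : IsClosedImmersion tJ := by
    have : IsClosedImmersion (tJ ≫ J.subschemeι) := by
      rw [Scheme.IdealSheafData.inclusion_subschemeι]; infer_instance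
    exact IsClosedImmersion.of_comp_isClosedImmersion _ J.subschemeι
  haveI : IsIso (I ⊓ J).subschemeι := (Scheme.isIso_subschemeι_iff_eq_bot _).2 hIJ
  have hP : IsPushout tJ tI J.subschemeι I.subschemeι :=
    ((ClosedGlue.unionData I J).isPushout.of_iso (Iso.refl _) (Iso.refl _) (Iso.refl _) (asIso (I ⊓ J).subschemeι)
      (by simp [tI]) (by simp [tJ]) (by simp [Scheme.IdealSheafData.inclusion_subschemeι])
      (by simp [Scheme.IdealSheafData.inclusion_subschemeι])).flip
  let φ := Y.hom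
  let q := pullback.snd φ tI
  have hq : ∀ d, q.finrank d = n := fun d =>
    (Scheme.Hom.finrank_pullback_snd φ tI d).trans (hn _)
  obtain ⟨e, he, heu⟩ := exists_sections q hsep n hq
  let ι := ULift.{u} (Fin n)
  let f : (∐ fun _ : ι => J.subscheme) ⟶ J.subscheme := Sigma.desc fun _ => 𝟙 _
  haveI : IsFinite f := Pi1Quot.isFinite_sigmaDesc _
  haveI : Etale f := etale_sigmaDesc ι
  haveI hH : IsIso (Sigma.desc fun i => pullback.lift (f := φ) (g := tI) (e i ≫ pullback.fst φ tI) (𝟙 _)
      (by rw [Category.assoc, pullback.condition, ← Category.assoc, he])) :=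
    Pi1FEt.isIso_sigmaDesc_lift φ tI (fun i => e i ≫ pullback.fst φ tI)
      (fun i => by rw [Category.assoc, pullback.condition, ← Category.assoc, he, Category.id_comp])
      fun Ω _ _ t x hx => by
        obtain ⟨i, hi, hu⟩ := heu Ω t (pullback.lift x t hx) (pullback.lift_snd _ _ _)
        refine ⟨i, by beta_reduce; rw [← Category.assoc, hi, pullback.lift_fst], fun i' hi' => hu i' ?_⟩
        apply pullback.hom_ext
        · rw [Category.assoc, pullback.lift_fst]; exact hi'
        · rw [Category.assoc, he, Category.comp_id, pullback.lift_snd]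
  let H := Sigma.desc fun i => pullback.lift (f := φ) (g := tI) (e i ≫ pullback.fst φ tI) (𝟙 _)
      (by rw [Category.assoc, pullback.condition, ← Category.assoc, he])
  haveI : IsIso (Sigma.desc fun i => pullback.lift (f := f) (g := tJ)
      (tJ ≫ Sigma.ι (fun _ : ι => J.subscheme) i) (𝟙 _) (by simp [f])) :=
    Pi1FEt.isIso_sigmaDesc_lift f tJ (fun i => tJ ≫ Sigma.ι (fun _ : ι => J.subscheme) i)
      (fun i => by simp [f]) fun Ω _ _ t x hx => by
        obtain ⟨i, y, hy⟩ := (sigmaOpenCover fun _ : ι => J.subscheme).exists_eq (x default)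
        let l := IsOpenImmersion.lift (Sigma.ι (fun _ : ι => J.subscheme) i) x (by
          rintro _ ⟨a, rfl⟩; rw [Subsingleton.elim a default]; exact ⟨y, hy⟩)
        have hl : l ≫ Sigma.ι (fun _ : ι => J.subscheme) i = x := IsOpenImmersion.lift_fac _ _ _
        have hlt : l = t ≫ tJ := by rw [← hx, ← hl]; simp [f]
        refine ⟨i, by beta_reduce; rw [← Category.assoc, ← hlt, hl], fun i' hi' => ?_⟩
        by_contra hne
        have h1 : x default ∈ (Sigma.ι (fun _ : ι => J.subscheme) i').opensRange :=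
          ⟨(t ≫ tJ) default, by rw [← Scheme.Hom.comp_apply, Category.assoc]; rw [hi']⟩
        exact (disjoint_opensRange_sigmaι (fun _ : ι => J.subscheme) _ _ hne).le_bot ⟨h1, ⟨y, hy⟩⟩
  let Φ := Sigma.desc fun i => pullback.lift (f := f) (g := tJ)
      (tJ ≫ Sigma.ι (fun _ : ι => J.subscheme) i) (𝟙 _) (by simp [f])
  let θ : pullback φ tI ≅ pullback f tJ := (asIso H).symm ≪≫ asIso Φ
  have hθ : θ.hom ≫ pullback.snd f tJ = q := by
    have : Φ ≫ pullback.snd f tJ = H ≫ q := by
      ext i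
      simp only [Φ, H, q, Sigma.ι_desc_assoc, pullback.lift_snd]
    simp [θ, this]
  let i' : pullback φ tI ⟶ ∐ fun _ : ι => J.subscheme := θ.hom ≫ pullback.fst f tJ
  let j' : pullback φ tI ⟶ Y.left := pullback.fst φ tI
  have hY : IsPullback q j' tI φ := (IsPullback.of_hasPullback φ tI).flip
  have hX : IsPullback q i' tJ f :=
    (IsPullback.of_hasPullback f tJ).flip.of_iso θ.symm (Iso.refl _) (Iso.refl _) (Iso.refl _)
      (by simp [← hθ]) (by simp [i']) (by simp) (by simp)
  haveI : IsClosedImmersion i' := MorphismProperty.of_isPullback hX inferInstance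
  haveI : IsClosedImmersion j' := MorphismProperty.of_isPullback hY inferInstance
  have hc := covers_of_closed tJ tI
  have hc' := covers_of_closed i' j'
  have hP' := Glue.isPushout hc'
  let k : Glue.P i' j' ⟶ Z := hP'.desc (f ≫ J.subschemeι) (φ ≫ I.subschemeι) (by
    rw [← Category.assoc, ← hX.w, Category.assoc, hP.w, ← Category.assoc, hY.w, Category.assoc])
  have ha : Glue.a hc' ≫ k = f ≫ J.subschemeι := hP'.inl_desc _ _ _
  have hb : Glue.b hc' ≫ k = φ ≫ I.subschemeι := hP'.inr_desc _ _ _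
  haveI : Etale k := by
    refine property_of_charts (Q := @Etale) (Q' := fun f => f.Etale) hc hP hc' hP' hX hY ha hb fun r => ?_
    have hloc : ∀ {R S : CommRingCat.{u}} {T T' : Scheme.{u}} (ψ : R ⟶ S) (u : Spec R ⟶ T) (v : Spec S ⟶ T')
        [IsOpenImmersion u] [IsOpenImmersion v] (g : T' ⟶ T) [Etale g],
        v ≫ g = Spec.map ψ ≫ u → ψ.hom.Etale := fun ψ u v _ _ g _ e => by
      have : Etale (Spec.map ψ ≫ u) := e ▸ inferInstance
      exact (HasRingHomProperty.Spec_iff (P := @Etale)).1 (Etale.of_comp (Spec.map ψ) u)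
    exact r.etale.2 ⟨hloc r.β r.c.uY r.c'.uY φ r.hβ, hloc r.α r.c.uX r.c'.uX f r.hα⟩
  haveI := affine_charts hc' hc hP k ha hb
  haveI : UniversallyClosed k := by
    haveI : Surjective (coprod.desc (Glue.a hc') (Glue.b hc')) := ⟨fun p => by
      obtain ⟨l, Q, rfl⟩ := Glue.jointly_surjective_P p
      rcases l.jointly_surjective Q with ⟨y, rfl⟩ | ⟨x, rfl⟩
      · refine ⟨(coprod.inr : Y.left ⟶ _) (l.fY y), ?_⟩
        rw [← Scheme.Hom.comp_apply, coprod.inr_desc, ← Scheme.Hom.comp_apply, Glue.fY_b, Scheme.Hom.comp_apply]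
      · refine ⟨(coprod.inl : (∐ fun _ : ι => J.subscheme) ⟶ _) (l.fX x), ?_⟩
        rw [← Scheme.Hom.comp_apply, coprod.inl_desc, ← Scheme.Hom.comp_apply, Glue.fX_a, Scheme.Hom.comp_apply]⟩
    haveI : UniversallyClosed (coprod.desc (Glue.a hc') (Glue.b hc') ≫ k) := by
      rw [coprod.desc_comp, ha, hb]; infer_instance
    exact UniversallyClosed.of_comp_surjective (coprod.desc (Glue.a hc') (Glue.b hc')) k
  haveI : IsFinite k := by
    haveI : IsIntegralHom k := IsIntegralHom.iff_universallyClosed_and_isAffineHom.2 ⟨inferInstance, inferInstance⟩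
    exact (IsFinite.iff_isIntegralHom_and_locallyOfFiniteType k).2 ⟨inferInstance, inferInstance⟩
  let W : FEt.Cat Z := MorphismProperty.Over.mk ⊤ k ⟨inferInstance, inferInstance⟩
  refine ⟨W, ⟨MorphismProperty.Over.isoMk
    (isPullback_inr hc hP hc' hP' hX hY ha hb).flip.isoPullback.symm ?_⟩⟩
  exact (isPullback_inr hc hP hc' hP' hX hY ha hb).flip.isoPullback_inv_snd

end Groth.Pi1Glue
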