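import Groth.Agent.Pi1Glue.ClosedPair
import Groth.Agent.Pi1FEt.Colimits
import Groth.Agent.Pi1Inv.Universal
import Groth.Agent.PropsBasic2.Reduced
import Mathlib.Topology.KrullDimension
import Mathlib.AlgebraicGeometry.Noetherian

/-!
# Finite etale covers of a connected closed subscheme of a curve over a separably closed field extend
-/

universe u

set_option autoImplicit false
set_option backward.isDefEq.respectTransparency false
set_option backward.defeqAttrib.useBackward true
set_option linter.style.haveILetI false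

open CategoryTheory Limits AlgebraicGeometry TopologicalSpace

namespace Groth.Pi1Glue

/-- In a locally Noetherian space of dimension at most one, a point in the closure of an open set
but not in it is closed. -/
theorem isClosed_singleton_of_mem_closure_diff {Z : Scheme.{u}} [IsLocallyNoetherian Z]
    (hdim : topologicalKrullDim Z ≤ 1) (U : Set Z) (hU : IsOpen U) (x : Z) (hx : x ∈ closure U) (hxU : x ∉ U) :
    IsClosed ({x} : Set Z) := by
  obtain ⟨V, hV, hxV, -⟩ := exists_isAffineOpen_mem_and_subset (x := x) (U := (⊤ : Z.Opens)) trivial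
  haveI : IsAffine V.toScheme := hV
  haveI : IsLocallyNoetherian V.toScheme := isLocallyNoetherian_of_isOpenImmersion V.ι
  haveI : IsNoetherian V.toScheme := {}
  let x' : V.toScheme := ⟨x, hxV⟩
  let U' : Set V.toScheme := V.ι ⁻¹' U
  have hx' : x' ∈ closure U' := by
    rw [show U' = V.ι ⁻¹' U from rfl, ← V.ι.isOpenEmbedding.isOpenMap.preimage_closure_eq_closure_preimage V.ι.continuous]
    exact hx
  obtain ⟨η', hη'U, hη'⟩ : ∃ η' ∈ U', η' ⤳ x' := by
    have hfin := NoetherianSpace.finite_irreducibleComponents (α := V.toScheme)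
    have hsub : U' ⊆ ⋃ C ∈ irreducibleComponents V.toScheme, C ∩ U' := fun y hy =>
      Set.mem_biUnion (irreducibleComponent_mem_irreducibleComponents y) ⟨mem_irreducibleComponent, hy⟩
    have h1 := closure_mono hsub hx'
    rw [hfin.closure_biUnion] at h1
    obtain ⟨C, hC, hxC⟩ := Set.mem_iUnion₂.1 h1
    have hCne : (C ∩ U').Nonempty := closure_nonempty_iff.1 ⟨x', hxC⟩
    have hgen := hC.1.isGenericPoint_genericPoint_closure
    rw [(isClosed_of_mem_irreducibleComponents C hC).closure_eq] at hgen
    refine ⟨_, (hgen.mem_open_set_iff (hU.preimage V.ι.continuous)).2 hCne,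
      hgen.specializes ((isClosed_of_mem_irreducibleComponents C hC).closure_subset
        (closure_mono Set.inter_subset_left hxC))⟩
  have hη : V.ι η' ⤳ x := hη'.map V.ι.continuous
  have hne : V.ι η' ≠ x := fun h => hxU (h ▸ (hη'U : V.ι η' ∈ U))
  by_contra hcl
  obtain ⟨y, hy, hyx⟩ : ∃ y, x ⤳ y ∧ y ≠ x := by
    by_contra hno
    simp only [not_exists, not_and, not_not] at hno
    exact hcl (closure_eq_iff_isClosed.1 (Set.Subset.antisymm
      (fun y hy => hno y (specializes_iff_mem_closure.2 hy)) subset_closure))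
  let C : Z → IrreducibleCloseds Z := fun z => ⟨closure {z}, isIrreducible_singleton.closure, isClosed_closure⟩
  have hlt : ∀ a b : Z, a ⤳ b → a ≠ b → C b < C a := fun a b hab hne => by
    refine lt_of_le_of_ne hab.closure_subset fun he => hne ?_
    have : closure {b} = closure ({a} : Set Z) := congrArg (fun s : IrreducibleCloseds Z => (s : Set Z)) he
    exact (inseparable_iff_closure_eq.2 this.symm).eq
  let s : LTSeries (IrreducibleCloseds Z) :=
    ((RelSeries.singleton _ (C y)).snoc (C x) (hlt x y hy hyx.symm)).snoc (C (V.ι η'))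
      (by rw [RelSeries.last_snoc]; exact hlt _ x hη hne)
  have h2 : ((2 : ℕ) : WithBot ℕ∞) ≤ topologicalKrullDim Z := Order.LTSeries.length_le_krullDim s
  exact absurd (h2.trans hdim) (by decide)

/-- A closed set of closed points in a locally Noetherian scheme is discrete. -/
theorem isDiscrete_of_closed_points {Z : Scheme.{u}} [IsLocallyNoetherian Z] (S : Set Z) (hS : IsClosed S)
    (h : ∀ x ∈ S, IsClosed ({x} : Set Z)) : _root_.IsDiscrete S := by
  rw [isDiscrete_iff_forall_mem_exists_isOpen]
  intro x hx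
  obtain ⟨V, hV, hxV, -⟩ := exists_isAffineOpen_mem_and_subset (x := x) (U := (⊤ : Z.Opens)) trivial
  haveI : IsAffine V.toScheme := hV
  haveI : IsLocallyNoetherian V.toScheme := isLocallyNoetherian_of_isOpenImmersion V.ι
  haveI : IsNoetherian V.toScheme := {}
  let S' : Set V.toScheme := V.ι ⁻¹' S
  have hpt : ∀ y ∈ S', IsClosed ({y} : Set V.toScheme) := fun y hy => by
    have : ({y} : Set V.toScheme) = V.ι ⁻¹' {V.ι y} := by
      ext z; exact ⟨fun h => congrArg V.ι h, fun h => V.ι.isOpenEmbedding.injective h⟩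
    rw [this]; exact (h _ hy).preimage V.ι.continuous
  have hfin : S'.Finite := by
    obtain ⟨T, hTf, hTc, hTi, hTe⟩ :=
      NoetherianSpace.exists_finite_set_isClosed_irreducible (hS.preimage V.ι.continuous)
    refine Set.Finite.subset (hTf.biUnion (t := fun t => t) fun t ht => ?_) (fun y hy => ?_)
    · have hgen := (hTi t ht).isGenericPoint_genericPoint_closure
      rw [(hTc t ht).closure_eq] at hgen
      have hmem : (hTi t ht).genericPoint ∈ S' := by
        change (hTi t ht).genericPoint ∈ V.ι ⁻¹' S
        rw [hTe]; exact ⟨t, ht, hgen.mem⟩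
      rw [← hgen.def, (hpt _ hmem).closure_eq]
      exact Set.finite_singleton _
    · obtain ⟨t, ht, hyt⟩ : y ∈ ⋃₀ T := hTe ▸ hy
      exact Set.mem_biUnion ht hyt
  let W : Set Z := V.ι '' (S' \ {⟨x, hxV⟩})
  have hW : IsClosed W := by
    rw [show W = ⋃ y ∈ (S' \ {⟨x, hxV⟩}), {V.ι y} from by ext; simp [W, eq_comm]]
    exact (hfin.subset Set.sdiff_subset).isClosed_biUnion fun y hy => h _ hy.1
  refine ⟨(V : Set Z) \ W, V.2.sdiff hW, Set.Subset.antisymm ?_ ?_⟩
  · rintro z ⟨⟨hzV, hzW⟩, hzS⟩
    by_contra hne
    exact hzW ⟨⟨z, hzV⟩, ⟨hzS, fun e => hne (congrArg Subtype.val e : z = x)⟩, rfl⟩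
  · rintro z rfl
    refine ⟨⟨hxV, ?_⟩, hx⟩
    rintro ⟨y, ⟨-, hy⟩, e⟩
    exact hy (Subtype.ext e)

theorem essSurj_subschemeι {k : Type u} [Field k] [IsSepClosed k] {Z : Scheme.{u}} [IsReduced Z]
    (a : Z ⟶ Spec (CommRingCat.of k)) [LocallyOfFiniteType a] (hdim : topologicalKrullDim Z ≤ 1)
    (I : Z.IdealSheafData) [ConnectedSpace I.subscheme] : (FEt.restrict I.subschemeι).EssSurj := by
  haveI : IsLocallyNoetherian Z := LocallyOfFiniteType.isLocallyNoetherian a
  let J := Scheme.IdealSheafData.vanishingIdeal ⟨closure (I.support : Set Z)ᶜ, isClosed_closure⟩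
  have hIJ : I ⊓ J = ⊥ := by
    refine eq_bot_iff.2 ?_
    rw [← Scheme.nilradical_eq_bot (X := Z), ← Scheme.IdealSheafData.vanishingIdeal_top]
    refine Scheme.IdealSheafData.le_support_iff_le_vanishingIdeal.1 fun z _ => ?_
    have hle : (I ⊓ J).support ≥ I.support ⊔ J.support :=
      sup_le (Scheme.IdealSheafData.support_antitone inf_le_left) (Scheme.IdealSheafData.support_antitone inf_le_right)
    refine hle ?_
    by_cases hz : z ∈ I.support
    · exact Or.inl hz
    · refine Or.inr ?_
      rw [Scheme.IdealSheafData.coe_support_vanishingIdeal]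
      exact subset_closure (fun h => hz h)
  have hpts : ∀ z ∈ ((I ⊔ J).support : Set Z), IsClosed ({z} : Set Z) := by
    intro z hz
    rw [Scheme.IdealSheafData.support_sup] at hz
    have hzJ : z ∈ (J.support : Set Z) := hz.2
    rw [Scheme.IdealSheafData.coe_support_vanishingIdeal] at hzJ
    exact isClosed_singleton_of_mem_closure_diff hdim _ I.support.isClosed.isOpen_compl z hzJ (fun h => h hz.1)
  haveI : DiscreteTopology (I ⊔ J).subscheme := by
    have hd := isDiscrete_of_closed_points _ (I ⊔ J).support.isClosed hpts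
    haveI := hd.to_subtype
    let e := (I ⊔ J).subschemeι.isEmbedding.toHomeomorph.trans
      (Homeomorph.setCongr (I ⊔ J).range_subschemeι)
    exact e.isEmbedding.discreteTopology
  have hsep : ∀ d : ↥(I ⊔ J).subscheme, IsSepClosed ((I ⊔ J).subscheme.residueField d) := by
    intro d
    let D := (I ⊔ J).subscheme
    let g := D.fromSpecResidueField d ≫ (I ⊔ J).subschemeι ≫ a
    haveI : IsClosedImmersion (D.fromSpecResidueField d) :=
      isClosed_singleton_iff_isClosedImmersion.1 (isClosed_discrete _)
    haveI : IsFinite g := (isFinite_iff_locallyOfFiniteType_of_jacobsonSpace).2 inferInstance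
    let φ : k →+* D.residueField d := (Spec.preimage g).hom
    letI := φ.toAlgebra
    have hint : φ.IsIntegral := by
      have : IsIntegralHom (Spec.map (Spec.preimage g)) := by rw [Spec.map_preimage]; infer_instance
      exact IsIntegralHom.SpecMap_iff.1 this
    haveI : Algebra.IsIntegral k (D.residueField d) := ⟨hint⟩
    exact Algebra.IsAlgebraic.isSepClosed (F := k)
  refine ⟨fun Y => ?_⟩
  haveI : IsFinite Y.hom := Y.prop.1
  haveI : Etale Y.hom := Y.prop.2
  obtain ⟨x₀⟩ := (inferInstance : Nonempty I.subscheme)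
  let φ : Y.left ⟶ I.subscheme := Y.hom
  haveI : IsFinite φ := Y.prop.1
  haveI : Etale φ := Y.prop.2
  obtain ⟨W, hW⟩ := exists_extension I J hIJ hsep Y (φ.finrank x₀)
    (fun x => (φ.isLocallyConstant_finrank).apply_eq_of_isPreconnected (s := Set.univ) isPreconnected_univ
      (Set.mem_univ x) (Set.mem_univ x₀))
  exact ⟨W, hW⟩

theorem essSurj_restrict_of_curve {k : Type u} [Field k] [IsSepClosed k] {Z X : Scheme.{u}}
    (a : Z ⟶ Spec (CommRingCat.of k)) [LocallyOfFiniteType a] (hdim : topologicalKrullDim Z ≤ 1)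
    (i : X ⟶ Z) [IsClosedImmersion i] [ConnectedSpace X] : (FEt.restrict i).EssSurj := by
  let r := Z.nilradical.subschemeι
  haveI : Surjective r := ⟨fun z => by
    have : z ∈ Set.range r := by
      rw [Scheme.IdealSheafData.range_subschemeι, Scheme.support_nilradical]; trivial
    exact this⟩
  let s := pullback.fst i r
  haveI : IsReduced Z.nilradical.subscheme := PropsBasic2.isReduced_nilradical_subscheme Z
  haveI : (FEt.restrict r).IsEquivalence := Pi1Inv.isEquivalence_of_isIntegralHom r
  haveI : (FEt.restrict s).IsEquivalence := Pi1Inv.isEquivalence_of_isIntegralHom s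
  let j := pullback.snd i r
  haveI : ConnectedSpace (pullback i r : Scheme.{u}) := by
    have hs : IsHomeomorph s := isHomeomorph_iff_isEmbedding_surjective.2 ⟨s.isEmbedding, s.surjective⟩
    exact hs.homeomorph.symm.surjective.connectedSpace hs.homeomorph.symm.continuous
  let I := j.ker
  haveI : ConnectedSpace I.subscheme :=
    j.toImage.surjective.connectedSpace j.toImage.continuous
  haveI : (FEt.restrict I.subschemeι).EssSurj :=
    essSurj_subschemeι (r ≫ a)
      (le_trans r.isEmbedding.isInducing.topologicalKrullDim_le hdim) I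
  haveI : (FEt.restrict j).EssSurj :=
    Functor.essSurj_of_iso ((Pi1FEt.restrictCongr j.toImage_imageι.symm) ≪≫
      Pi1FEt.restrictCompIso j.toImage j.imageι).symm
  haveI : (FEt.restrict i ⋙ FEt.restrict s).EssSurj :=
    Functor.essSurj_of_iso ((Pi1FEt.restrictCompIso j r).symm ≪≫
      Pi1FEt.restrictCongr pullback.condition.symm ≪≫ Pi1FEt.restrictCompIso s i)
  exact ⟨fun Y => ⟨_, ⟨(FEt.restrict s).preimageIso
    ((FEt.restrict i ⋙ FEt.restrict s).objObjPreimageIso ((FEt.restrict s).obj Y))⟩⟩⟩

end Groth.Pi1Glue
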