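import Groth.Agent.Pi1FEt.Splitting
import Mathlib.AlgebraicGeometry.Morphisms.QuasiFinite
import Mathlib.FieldTheory.PurelyInseparable.Basic

/-!
# Finite etale covers of discrete schemes with separably closed residue fields are trivial
-/

universe u

set_option autoImplicit false
set_option backward.isDefEq.respectTransparency false
set_option backward.defeqAttrib.useBackward true
set_option linter.style.haveILetI false

open CategoryTheory Limits AlgebraicGeometry

namespace Groth.Pi1Glue

theorem exists_spec_map_eq {Ω : Type u} [Field Ω] {X : Scheme.{u}} (y : Spec (CommRingCat.of Ω) ⟶ X) (x : X)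
    (hx : y default = x) :
    ∃ φ : X.residueField x ⟶ CommRingCat.of Ω, Spec.map φ ≫ X.fromSpecResidueField x = y := by
  subst hx
  obtain ⟨⟨x, φ⟩, rfl⟩ := (Scheme.SpecToEquivOfField Ω X).symm.surjective y
  have h : (Spec.map φ ≫ X.fromSpecResidueField x) default = x := by
    rw [Scheme.Hom.comp_apply]; exact X.fromSpecResidueField_apply x _
  change ∃ ψ : X.residueField ((Spec.map φ ≫ X.fromSpecResidueField x) default) ⟶ CommRingCat.of Ω,
    Spec.map ψ ≫ X.fromSpecResidueField ((Spec.map φ ≫ X.fromSpecResidueField x) default) =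
      Spec.map φ ≫ X.fromSpecResidueField x
  rw [h]
  exact ⟨φ, rfl⟩

variable {E D : Scheme.{u}} (q : E ⟶ D) [IsFinite q] [Etale q]

theorem isIso_residueFieldMap (hsep : ∀ d : D, IsSepClosed (D.residueField d)) (e : E) :
    IsIso (q.residueFieldMap e) := by
  letI : Algebra (D.residueField (q.base e)) (E.residueField e) := (q.residueFieldMap e).hom.toAlgebra
  haveI : IsSepClosed (D.residueField (q.base e)) := hsep _
  rw [ConcreteCategory.isIso_iff_bijective]
  exact IsSepClosed.algebraMap_bijective (D.residueField (q.base e)) (E.residueField e)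

theorem exists_geomPoint_over (hsep : ∀ d : D, IsSepClosed (D.residueField d)) {Ω : Type u} [Field Ω]
    (ξ : Spec (CommRingCat.of Ω) ⟶ D) (e : E) (he : q e = ξ default) :
    ∃! y : Spec (CommRingCat.of Ω) ⟶ E, y ≫ q = ξ ∧ y default = e := by
  haveI := isIso_residueFieldMap q hsep e
  obtain ⟨φ, hφ⟩ := exists_spec_map_eq ξ (q e) he.symm
  refine ⟨Spec.map (inv (q.residueFieldMap e) ≫ φ) ≫ E.fromSpecResidueField e, ⟨?_, ?_⟩, ?_⟩
  · rw [Category.assoc, ← Scheme.Hom.SpecMap_residueFieldMap_fromSpecResidueField, ← Category.assoc,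
      ← Spec.map_comp, IsIso.hom_inv_id_assoc, hφ]
  · rw [Scheme.Hom.comp_apply]; exact E.fromSpecResidueField_apply e _
  · rintro y ⟨hy₁, hy₂⟩
    obtain ⟨ψ, rfl⟩ := exists_spec_map_eq y e hy₂
    rw [Category.assoc, ← Scheme.Hom.SpecMap_residueFieldMap_fromSpecResidueField, ← Category.assoc,
      ← Spec.map_comp, ← hφ, cancel_mono] at hy₁
    rw [Spec.map_injective hy₁.symm, IsIso.inv_hom_id_assoc]

omit [Etale q] in
include q in
theorem discreteTopology_source [DiscreteTopology D] : DiscreteTopology E := by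
  rw [discreteTopology_iff_forall_isClosed]
  intro s
  have h : ∀ d : D, IsClosed (s ∩ q ⁻¹' {d}) := fun d => by
    have hd := q.isDiscrete_preimage_singleton d
    have hcl : IsClosed (q ⁻¹' {d}) := (isClosed_discrete _).preimage q.continuous
    haveI := hd.to_subtype
    have h1 : IsClosed (((↑) : ↥(q ⁻¹' {d}) → E) '' ((↑) ⁻¹' s)) :=
      hcl.isClosedEmbedding_subtypeVal.isClosedMap _ (isClosed_discrete _)
    rwa [Subtype.image_preimage_coe, Set.inter_comm] at h1
  have hs : s = ⋃ d : D, s ∩ q ⁻¹' {d} := by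
    ext x; simp
  rw [hs]
  refine LocallyFinite.isClosed_iUnion (fun x => ⟨q ⁻¹' {q x}, ((isOpen_discrete _).preimage q.continuous).mem_nhds rfl, ?_⟩) h
  refine (Set.finite_singleton (q x)).subset ?_
  rintro d ⟨y, ⟨-, hy⟩, hy'⟩
  exact hy.symm.trans hy'

/-- A finite etale cover of constant degree `n` of such a scheme has `n` sections trivialising it. -/
theorem exists_sections [DiscreteTopology D] (hsep : ∀ d : D, IsSepClosed (D.residueField d)) (n : ℕ)
    (hn : ∀ d : D, q.finrank d = n) :
    ∃ e : ULift.{u} (Fin n) → (D ⟶ E), (∀ k, e k ≫ q = 𝟙 D) ∧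
      ∀ (Ω : Type u) [Field Ω] [IsAlgClosed Ω] (t : Spec (CommRingCat.of Ω) ⟶ D)
        (x : Spec (CommRingCat.of Ω) ⟶ E), x ≫ q = t → ∃! k, t ≫ e k = x := by
  haveI := discreteTopology_source q
  have hfib : ∀ d : D, Nonempty ({e : E // q e = d} ≃ ULift.{u} (Fin n)) := fun d => by
    haveI : Finite {e : E // q e = d} := (q.finite_preimage_singleton d).to_subtype
    obtain ⟨Ω, _, _, ξ, hξ, hc⟩ := Pi1FEt.exists_geomPoint_natCard q d
    haveI : IsSepClosed Ω := inferInstance
    let F : {x : Spec (CommRingCat.of Ω) ⟶ E // x ≫ q = ξ} → {e : E // q e = d} := fun x =>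
      ⟨x.1 default, by rw [← Scheme.Hom.comp_apply, x.2, hξ]⟩
    have hF : Function.Bijective F := by
      refine ⟨fun a b hab => Subtype.ext ?_, fun e => ?_⟩
      · have hab' : a.1 default = b.1 default := congrArg Subtype.val hab
        exact (exists_geomPoint_over q hsep ξ (b.1 default)
          (by rw [← Scheme.Hom.comp_apply, b.2])).unique ⟨a.2, hab'⟩ ⟨b.2, rfl⟩
      · obtain ⟨y, ⟨hy₁, hy₂⟩, -⟩ := exists_geomPoint_over q hsep ξ e.1 (e.2.trans hξ.symm)
        exact ⟨⟨y, hy₁⟩, Subtype.ext hy₂⟩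
    have hcard : Nat.card {e : E // q e = d} = n := by
      rw [← hn d, hc, Nat.card_congr (Equiv.ofBijective F hF)]
    exact ⟨(Finite.equivFinOfCardEq hcard).trans Equiv.ulift.symm⟩
  let φ := fun d => (hfib d).some
  let idx : E → ULift.{u} (Fin n) := fun e => φ (q e) ⟨e, rfl⟩
  let O : ULift.{u} (Fin n) → E.Opens := fun k => ⟨{e | idx e = k}, isOpen_discrete _⟩
  have hiso : ∀ k, IsIso ((O k).ι ≫ q) := fun k => by
    haveI : IsClosedImmersion (O k).ι := IsClosedImmersion.of_isPreimmersion _ (isClosed_discrete _)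
    refine Pi1FEt.isIso_of_existsUnique _ fun Ω _ _ ξ => ?_
    let e₀ := (φ (ξ default)).symm k
    have he₀ : idx e₀.1 = k := by
      have key : ∀ (d : D) (z : {e : E // q e = d}), idx z.1 = φ d z := by
        rintro d ⟨z, rfl⟩; rfl
      rw [key _ e₀, Equiv.apply_symm_apply]
    obtain ⟨y, ⟨hy₁, hy₂⟩, hyu⟩ := exists_geomPoint_over q hsep ξ e₀.1 e₀.2
    have hr : Set.range y.base ⊆ Set.range (O k).ι.base := by
      rintro _ ⟨a, rfl⟩
      rw [Scheme.Opens.range_ι, Subsingleton.elim a default]
      change idx (y default) = k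
      rw [hy₂]; exact he₀
    refine ⟨IsOpenImmersion.lift (O k).ι y hr,
      (IsOpenImmersion.lift_fac_assoc (O k).ι y hr q).trans hy₁, fun y' hy' => ?_⟩
    rw [← cancel_mono (O k).ι, IsOpenImmersion.lift_fac]
    refine hyu _ ⟨(Category.assoc _ _ _).trans hy', ?_⟩
    have hm : idx ((y' ≫ (O k).ι) default) = k := by
      rw [Scheme.Hom.comp_apply]; exact (y' default).2
    have hq : q ((y' ≫ (O k).ι) default) = ξ default := by
      rw [← Scheme.Hom.comp_apply, Category.assoc, hy']
    have : (⟨_, hq⟩ : {e : E // q e = ξ default}) = e₀ := by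
      apply (φ (ξ default)).injective
      rw [Equiv.apply_symm_apply]
      refine Eq.trans ?_ hm
      have key : ∀ (d : D) (z : {e : E // q e = d}), φ d z = idx z.1 := by
        rintro d ⟨z, rfl⟩; rfl
      exact key _ _
    exact congrArg Subtype.val this
  refine ⟨fun k => inv ((O k).ι ≫ q) ≫ (O k).ι, fun k => by rw [Category.assoc, IsIso.inv_hom_id],
    fun Ω _ _ t x hx => ⟨idx (x default), ?_, fun k hk => ?_⟩⟩
  · haveI := hiso (idx (x default))
    have hr : Set.range x.base ⊆ Set.range (O (idx (x default))).ι.base := by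
      rintro _ ⟨a, rfl⟩
      rw [Scheme.Opens.range_ι, Subsingleton.elim a default]
      rfl
    have h1 := IsOpenImmersion.lift_fac (O (idx (x default))).ι x hr
    have gen : ∀ (k : ULift.{u} (Fin n)) (z : Spec (CommRingCat.of Ω) ⟶ (O k).toScheme),
        z ≫ (O k).ι = x → t ≫ (haveI := hiso k; inv ((O k).ι ≫ q)) ≫ (O k).ι = x := by
      intro k z hz
      haveI := hiso k
      have e := IsIso.hom_inv_id_assoc ((O k).ι ≫ q) (O k).ι
      rw [Category.assoc] at e
      rw [← hx, ← hz, Category.assoc, Category.assoc]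
      exact congrArg (z ≫ ·) e
    exact gen _ _ h1
  · rw [← hk]
    simp only [Scheme.Hom.comp_apply]
    exact (((inv ((O k).ι ≫ q)) (t default)).2).symm

end Groth.Pi1Glue
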